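import Mathlib

/-! The order of an abelian group acted on irreducibly by an automorphism of prime order. -/

set_option autoImplicit false

namespace Cfsg.Agent.Lib.Struct22

open Polynomial

/-- An additive group of exponent `q` with an endomorphism `T ≠ 1`, `T ^ p = 1`, and no proper invariant
subgroup has order `q ^ e`, `e` the order of `q` modulo `p`. -/
theorem card_of_irreducible {V : Type*} [AddCommGroup V] [Finite V] [Nontrivial V] {p q : ℕ}
    [hp : Fact p.Prime] [hq : Fact q.Prime] (hV : ∀ v : V, q • v = 0)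
    (T : AddMonoid.End V) (hT : T ^ p = 1) (hT1 : T ≠ 1)
    (hirr : ∀ U : AddSubgroup V, (∀ u ∈ U, T u ∈ U) → U = ⊥ ∨ U = ⊤) :
    Nat.card V = q ^ orderOf (q : ZMod p) := by
  classical
  let φ : ℤ[X] →+* AddMonoid.End V := Polynomial.eval₂RingHom' (Int.castRingHom _) T (fun a => Int.cast_commute a T)
  let R := ℤ[X] ⧸ RingHom.ker φ
  let ψ : R →+* AddMonoid.End V := RingHom.kerLift φ
  have hψ : Function.Injective ψ := RingHom.kerLift_injective φ
  let t : R := Ideal.Quotient.mk _ X
  have ht : ψ t = T := by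
    show φ X = T
    simp [φ]
  have hcomm : ∀ (r : R) (v : V), ψ r (T v) = T (ψ r v) := fun r v => by
    have h : ψ r * T = T * ψ r := by rw [← ht, ← map_mul, ← map_mul, mul_comm]
    exact congrArg (fun f : AddMonoid.End V => f v) h
  -- nonzero elements act injectively
  have hinj : ∀ r : R, r ≠ 0 → ∀ v, ψ r v = 0 → v = 0 := by
    intro r hr v hv
    let U : AddSubgroup V := AddMonoidHom.ker (ψ r : V →+ V)
    rcases hirr U (fun u hu => by
      show ψ r (T u) = 0
      rw [hcomm r u, show ψ r u = 0 from hu, map_zero]) with h | h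
    · have hmem : v ∈ U := hv
      rw [h] at hmem; exact AddSubgroup.mem_bot.mp hmem
    · exfalso
      apply hr
      apply hψ
      rw [map_zero]
      ext w
      show ψ r w = 0
      have hw : w ∈ U := h ▸ AddSubgroup.mem_top w
      exact hw
  obtain ⟨v0, hv0⟩ := exists_ne (0 : V)
  let ev : R →+ V :=
    { toFun := fun r => ψ r v0
      map_zero' := by simp
      map_add' := fun a b => by rw [map_add]; rfl }
  have hev : Function.Bijective ev := by
    refine ⟨(injective_iff_map_eq_zero ev).mpr fun r hr => by_contra fun h => hv0 (hinj r h v0 hr), ?_⟩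
    rcases hirr ev.range (by
      rintro u ⟨r, rfl⟩
      refine ⟨t * r, ?_⟩
      show ψ (t * r) v0 = T (ψ r v0)
      rw [map_mul, ht]; rfl) with h | h
    · exfalso
      apply hv0
      have : ev 1 ∈ ev.range := ⟨1, rfl⟩
      rw [h, AddSubgroup.mem_bot] at this
      simpa [ev] using this
    · exact AddMonoidHom.range_eq_top.mp h
  haveI : Finite R := Finite.of_injective ev hev.1
  have hcard : Nat.card R = Nat.card V := Nat.card_eq_of_bijective ev hev
  haveI : Nontrivial R := hev.2.nontrivial
  haveI : NoZeroDivisors R := ⟨fun {a b} hab => by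
    by_contra h
    push_neg at h
    apply h.2
    apply hψ
    rw [map_zero]
    ext w
    refine hinj a h.1 _ ?_
    have h2 : (ψ a * ψ b) w = 0 := by rw [← map_mul, hab, map_zero]; rfl
    exact h2⟩
  haveI : IsDomain R := NoZeroDivisors.to_isDomain R
  haveI : CharP R q := (CharP.charP_iff_prime_eq_zero hq.out).mpr (by
    apply hev.1
    show ψ (q : R) v0 = ev 0
    rw [map_zero, map_natCast, AddMonoid.End.natCast_apply, hV])
  haveI : Fintype R := Fintype.ofFinite R
  letI : Field R := Fintype.fieldOfDomain R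
  obtain ⟨n, -, hn⟩ := FiniteField.card R q
  set e := orderOf (q : ZMod p) with he
  have hne : ψ t ≠ 1 := by rw [ht]; exact hT1
  have htp : t ^ p = 1 := hψ (by rw [map_pow, ht, hT, map_one])
  have hot : orderOf t = p := orderOf_eq_prime htp (fun h => hne (by rw [h, map_one]))
  have ht0 : t ≠ 0 := fun h => by
    rw [h, zero_pow hp.out.ne_zero] at htp
    exact zero_ne_one htp
  have hpn : (q : ZMod p) ^ (n : ℕ) = 1 := by
    have h1 : p ∣ Fintype.card R - 1 := hot ▸ orderOf_dvd_of_pow_eq_one (FiniteField.pow_card_sub_one_eq_one t ht0)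
    rw [hn] at h1
    have h2 : ((q ^ (n : ℕ) - 1 : ℕ) : ZMod p) = 0 := (ZMod.natCast_eq_zero_iff _ _).mpr h1
    rw [Nat.cast_sub (Nat.one_le_pow _ _ hq.out.pos), sub_eq_zero] at h2
    simpa using h2
  have hen : e ≤ n := Nat.le_of_dvd n.2 (orderOf_dvd_of_pow_eq_one hpn)
  have he0 : 0 < e := orderOf_pos_iff.mpr (isOfFinOrder_iff_pow_eq_one.mpr ⟨n, n.2, hpn⟩)
  have hte : t ^ q ^ e = t := by
    have h1 : ((q ^ e : ℕ) : ZMod p) = ((1 : ℕ) : ZMod p) := by
      rw [Nat.cast_pow, Nat.cast_one, he, pow_orderOf_eq_one]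
    rw [ZMod.natCast_eq_natCast_iff', Nat.mod_eq_of_lt hp.out.one_lt] at h1
    rw [← Nat.div_add_mod (q ^ e) p, h1, pow_add, pow_mul, htp, one_pow, one_mul, pow_one]
  have hhom : (iterateFrobenius R q e).comp (Ideal.Quotient.mk (RingHom.ker φ)) =
      Ideal.Quotient.mk (RingHom.ker φ) := by
    refine Polynomial.ringHom_ext (fun a => ?_) ?_
    · rw [RingHom.comp_apply, show Polynomial.C a = ((a : ℤ) : ℤ[X]) by simp]
      simp only [map_intCast]
    · show iterateFrobenius R q e t = t
      rw [iterateFrobenius_def, hte]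
  have hroots : ∀ r : R, r ^ q ^ e = r := by
    intro r
    obtain ⟨P, rfl⟩ := Ideal.Quotient.mk_surjective r
    exact RingHom.congr_fun hhom P
  have h1 : 1 < q ^ e := Nat.one_lt_pow he0.ne' hq.out.one_lt
  have hle : Fintype.card R ≤ q ^ e := by
    have hp0 : (Polynomial.X ^ q ^ e - Polynomial.X : R[X]) ≠ 0 := FiniteField.X_pow_card_sub_X_ne_zero R h1
    refine le_trans ?_ (le_of_le_of_eq (Polynomial.card_roots' _)
      (FiniteField.X_pow_card_sub_X_natDegree_eq R h1))
    rw [← Finset.card_univ]
    refine le_trans (Finset.card_le_card (t := (Polynomial.X ^ q ^ e - Polynomial.X : R[X]).roots.toFinset) fun r _ => ?_)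
      (Multiset.toFinset_card_le _)
    rw [Multiset.mem_toFinset, Polynomial.mem_roots hp0]
    simp [hroots r]
  rw [hn] at hle
  have hne' : (n : ℕ) = e := le_antisymm ((Nat.pow_le_pow_iff_right hq.out.one_lt).mp hle) hen
  rw [← hcard, Nat.card_eq_fintype_card, hn, hne']

/-- An elementary abelian `q`-group with no proper subgroup invariant under the element `x`, of order `p`
modulo its centralizer, has order `q ^ e`. -/
theorem card_of_irreducible_conj {G : Type*} [Group G] [Finite G] {p q : ℕ} [hp : Fact p.Prime] [hq : Fact q.Prime]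
    (A : Subgroup G) [A.Normal] (hab : ∀ a ∈ A, ∀ b ∈ A, a * b = b * a) (hexp : ∀ a ∈ A, a ^ q = 1)
    (hA : A ≠ ⊥) (x : G) (hxp : ∀ a ∈ A, x ^ p * a * (x ^ p)⁻¹ = a) (hx : ∃ a ∈ A, x * a * x⁻¹ ≠ a)
    (hirr : ∀ B : Subgroup G, B ≤ A → (∀ b ∈ B, x * b * x⁻¹ ∈ B) → B = ⊥ ∨ B = A) :
    Nat.card A = q ^ orderOf (q : ZMod p) := by
  letI : CommGroup A := { (inferInstance : Group A) with mul_comm := fun a b => Subtype.ext (hab a a.2 b b.2) }
  haveI : Nontrivial (Additive A) := (Subgroup.nontrivial_iff_ne_bot A).mpr hA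
  let c : AddMonoid.End (Additive A) := MonoidHom.toAdditive (MulAut.conjNormal x : MulAut A).toMonoidHom
  have hc : ∀ (k : ℕ) (v : Additive A),
      (((c ^ k) v).toMul : G) = x ^ k * (v.toMul : G) * (x ^ k)⁻¹ := by
    intro k v
    induction k with
    | zero => simp
    | succ k ih =>
      rw [pow_succ' c]
      show x * (((c ^ k) v).toMul : G) * x⁻¹ = _
      rw [ih, pow_succ']
      group
  have h := card_of_irreducible (V := Additive A) (p := p) (q := q)
    (fun v => Additive.toMul.injective (Subtype.ext (by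
      show (((v.toMul : A) ^ q : A) : G) = 1
      rw [SubmonoidClass.coe_pow]; exact hexp _ v.toMul.2)))
    c
    (DFunLike.ext _ _ fun v => Additive.toMul.injective (Subtype.ext (by
      rw [hc]; exact hxp _ v.toMul.2)))
    (fun h => by
      obtain ⟨a, ha, hne⟩ := hx
      apply hne
      have := hc 1 (Additive.ofMul ⟨a, ha⟩)
      rw [pow_one, pow_one, h] at this
      exact this.symm)
    (fun U hU => by
      rcases hirr ((AddSubgroup.toSubgroup' U).map A.subtype) (Subgroup.map_subtype_le _) (by
        rintro _ ⟨b, hb, rfl⟩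
        exact ⟨(c (Additive.ofMul b)).toMul, hU _ hb, rfl⟩) with h | h
      · left
        rw [Subgroup.map_eq_bot_iff_of_injective _ A.subtype_injective] at h
        ext v
        refine ⟨fun hv => ?_, fun hv => by rw [AddSubgroup.mem_bot.mp hv]; exact U.zero_mem⟩
        have : v.toMul ∈ AddSubgroup.toSubgroup' U := hv
        rw [h, Subgroup.mem_bot] at this
        rw [AddSubgroup.mem_bot]
        exact Additive.toMul.injective this
      · right
        ext v
        refine ⟨fun _ => trivial, fun _ => ?_⟩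
        obtain ⟨b, hb, hbv⟩ := h.ge v.toMul.2
        rwa [show b = v.toMul from Subtype.ext hbv] at hb)
  exact h

end Cfsg.Agent.Lib.Struct22
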