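import Mathlib
import Cfsg.Prelude.Def_Transfer
import Cfsg.Agent.Lib.Coprime.Action
import Cfsg.Agent.Lib.Hall.Solvable
import Cfsg.Agent.Lib.Struct22.Irred

/-! A minimal normal `p'`-subgroup of index `p` when the subgroups of order `p` are normal in proper subgroups. -/

set_option autoImplicit false

namespace Cfsg.Agent.Lib.Struct22

open Subgroup
open scoped Pointwise

theorem structure_of_index_prime {G : Type*} [Group G] [Finite G] {p : ℕ} [hp : Fact p.Prime]
    (N : Subgroup G) [hNn : N.Normal] (hN : N ≠ ⊥) (hmin : ∀ B : Subgroup G, B.Normal → B ≤ N → B = ⊥ ∨ B = N)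
    (hidx : N.index = p) (hcop : ¬ p ∣ Nat.card N)
    (hnn : ∀ P : Subgroup G, Nat.card P = p → ¬ P.Normal)
    (hprop : ∀ H : Subgroup G, H ≠ ⊤ → ∀ P : Subgroup G, Nat.card P = p → P ≤ H → H ≤ normalizer (P : Set G)) :
    ∃ q : ℕ, q.Prime ∧ q ≠ p ∧ Nat.card G = p * q ^ orderOf (q : ZMod p) ∧
      ∃ A : Subgroup G, A.Normal ∧ Nat.card ↥A = q ^ orderOf (q : ZMod p) ∧ Cfsg.IsElementaryAbelian q A ∧
        ∀ B : Subgroup G, B.Normal → B ≤ A → B = ⊥ ∨ B = A := by
  classical
  have hcard : Nat.card G = p * Nat.card N := by rw [← N.index_mul_card, hidx]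
  obtain ⟨x, hx⟩ := exists_prime_orderOf_dvd_card' p (hcard ▸ dvd_mul_right p _)
  set P := zpowers x with hP
  have hPc : Nat.card P = p := by rw [hP, Nat.card_zpowers, hx]
  have hcopPN : (Nat.card P).Coprime (Nat.card N) := by
    rw [hPc]; exact hp.out.coprime_iff_not_dvd.mpr hcop
  have hPN : P ≤ normalizer (N : Set G) := le_normalizer_of_normal
  have hdisj : P ⊓ N = ⊥ := Coprime.inf_eq_bot_of_coprime hcopPN
  have hsolP : Group.IsSolvable P := Group.isSolvable_of_comm fun a b => by
    obtain ⟨_, i, rfl⟩ := a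
    obtain ⟨_, j, rfl⟩ := b
    exact Subtype.ext ((Commute.refl x).zpow_zpow i j).eq
  -- an invariant Sylow subgroup is everything
  obtain ⟨q, hq, hqN⟩ : ∃ q : ℕ, q.Prime ∧ IsPGroup q N := by
    by_contra hno
    push_neg at hno
    apply hnn P hPc
    rw [← normalizer_eq_top_iff]
    set C := normalizer (P : Set G) with hC
    refine eq_top_of_card_eq _ (Nat.dvd_antisymm (card_subgroup_dvd_card _) ?_)
    rw [hcard]
    have hpC : p ∣ Nat.card C := hPc ▸ card_dvd_of_le le_normalizer
    refine (Nat.Coprime.mul_dvd_of_dvd_of_dvd (hp.out.coprime_iff_not_dvd.mpr hcop) hpC ?_)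
    rw [← Nat.factorization_le_iff_dvd Nat.card_pos.ne' Nat.card_pos.ne']
    intro q
    by_cases hq : q.Prime
    swap
    · simp [Nat.factorization_eq_zero_of_not_prime _ hq]
    haveI := Fact.mk hq
    obtain ⟨S, hS⟩ := Coprime.exists_invariant_sylow hPN hcopPN (Or.inl hsolP) q
    set Q := (S : Subgroup N).map N.subtype with hQ
    have hQN : Q ≤ N := map_subtype_le _
    have hQp : IsPGroup q Q := S.2.map _
    have hQc : Nat.card Q = q ^ (Nat.card N).factorization q := by
      rw [hQ, card_map_of_injective N.subtype_injective, S.card_eq_multiplicity]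
    have hne : P ⊔ Q ≠ ⊤ := by
      intro h
      apply hno q hq
      have h1 := Coprime.card_sup_of_coprime hS (hcopPN.coprime_dvd_right (card_dvd_of_le hQN))
      rw [h, card_top, hcard, hPc] at h1
      have h2 : Q = N := eq_of_le_of_card_ge hQN (Nat.eq_of_mul_eq_mul_left hp.out.pos h1).le
      exact h2 ▸ hQp
    have hle : Q ≤ C := le_sup_right.trans (hprop _ hne P hPc le_sup_left)
    rw [← Nat.Prime.pow_dvd_iff_le_factorization hq Nat.card_pos.ne', ← hQc]
    exact card_dvd_of_le hle
  haveI := Fact.mk hq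
  haveI : Group.IsNilpotent N := hqN.isNilpotent
  obtain ⟨hab, q', hq', hexp⟩ := Hall.minimal_normal_solvable N hN hmin
  haveI := Fact.mk hq'
  have hA : Cfsg.IsElementaryAbelian q' N := ⟨hab, hexp⟩
  have hqp : q' ≠ p := by
    intro h
    obtain ⟨y, hy, hy1⟩ := (bot_or_exists_ne_one N).resolve_left hN
    have := orderOf_eq_prime (hexp y hy) hy1
    exact hcop (h ▸ this ▸ (orderOf_mk y hy ▸ orderOf_dvd_natCard _))
  have hPtop : P ⊔ N = ⊤ := by
    refine eq_top_of_card_eq _ ?_
    rw [Coprime.card_sup_of_coprime hPN hcopPN, hPc, hcard]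
  have hc : ∀ a ∈ N, ∀ b ∈ N, a * b = b * a := fun a ha b hb => congrArg Subtype.val (hab.1.1 ⟨a, ha⟩ ⟨b, hb⟩)
  have hcardN : Nat.card N = q' ^ orderOf (q' : ZMod p) := by
    refine card_of_irreducible_conj N hc hexp hN x ?_ ?_ ?_
    · intro a _
      rw [← hx, pow_orderOf_eq_one]; group
    · by_contra h
      push_neg at h
      apply hnn P hPc
      rw [← normalizer_eq_top_iff, eq_top_iff, ← hPtop]
      refine sup_le le_normalizer (le_trans (fun a ha => ?_) (Subgroup.centralizer_le_normalizer _))
      rw [hP, zpowers_eq_closure, centralizer_closure, mem_centralizer_singleton_iff]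
      exact (mul_inv_eq_iff_eq_mul.mp (h a ha)).symm
    · intro B hBN hB
      refine hmin B ?_ hBN
      rw [← normalizer_eq_top_iff, eq_top_iff, ← hPtop]
      refine sup_le ?_ fun a ha => mem_normalizer_iff.mpr fun b => ?_
      · have hle : MulAut.conj x • B ≤ B := by
          intro y hy
          rw [Coprime.mem_conj_smul] at hy
          have := hB _ hy
          simpa [mul_assoc] using this
        have he : MulAut.conj x • B = B := eq_of_le_of_card_ge hle (Coprime.card_conj_smul x B).ge
        rw [hP, zpowers_le]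
        exact Coprime.mem_normalizer_of_conj_smul_eq he
      · constructor
        · intro hb
          rwa [hc a ha b (hBN hb), mul_inv_cancel_right]
        · intro hb
          have h1 : b ∈ N := by
            have := hNn.conj_mem _ (hBN hb) a⁻¹
            simpa [mul_assoc] using this
          rwa [hc a ha b h1, mul_inv_cancel_right] at hb
  exact ⟨q', hq', hqp, by rw [hcard, hcardN], N, hNn, hcardN, hA, hmin⟩

end Cfsg.Agent.Lib.Struct22
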